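import Mathlib.GroupTheory.Sylow
import Mathlib.GroupTheory.PGroup
import Mathlib.GroupTheory.Subgroup.Centralizer

/-!
# Fixed point free action of a `p`-group on a `p'`-group: an invariant elementary abelian subgroup (helper25)

* `fix_of_not_dvd` : a `p`-subgroup `P` acting by conjugation on a finite set of size prime to `p` has a fixed point;
* `exists_sylow` : `P` a `p`-group normalising the `p'`-group `N` with `C_N(P) = 1` : for every prime `r` there is a Sylow
  `r`-subgroup of `N` normalised by `N(P) ⊓ N(N)`;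
* `exists_elab` : there is a nontrivial elementary abelian `r`-subgroup of `N` normalised by `N(P) ⊓ N(N)` (`r ∣ |N|`).
-/

set_option autoImplicit false
set_option linter.style.haveILetI false

namespace Cfsg.Agent.BX.Aff

open Subgroup
open scoped Pointwise

variable {G : Type*} [Group G]

/-- `g` normalises `E` (elementwise form). -/
def Nm (g : G) (E : Subgroup G) : Prop := ∀ a ∈ E, g * a * g⁻¹ ∈ E

theorem Nm.mul {g h : G} {E : Subgroup G} (hg : Nm g E) (hh : Nm h E) : Nm (g * h) E := fun a ha => by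
  have := hg _ (hh a ha)
  simpa [mul_assoc] using this

theorem Nm.one (E : Subgroup G) : Nm (1 : G) E := fun a ha => by simpa using ha

theorem Nm.pow {g : G} {E : Subgroup G} (hg : Nm g E) (n : ℕ) : Nm (g ^ n) E := by
  induction n with
  | zero => rw [pow_zero]; exact Nm.one E
  | succ n ih => rw [pow_succ]; exact ih.mul hg

theorem Nm.of_mem {g : G} {E : Subgroup G} (h : g ∈ normalizer (E : Set G)) : Nm g E :=
  fun a ha => (mem_normalizer_iff.1 h a).1 ha

theorem Nm.mem [Finite G] {g : G} {E : Subgroup G} (h : Nm g E) : g ∈ normalizer (E : Set G) :=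
  mem_normalizer_fintype h

theorem Nm.inv [Finite G] {g : G} {E : Subgroup G} (h : Nm g E) : Nm g⁻¹ E := Nm.of_mem (inv_mem h.mem)

theorem Nm.of_self {g : G} {E : Subgroup G} (h : g ∈ E) : Nm g E :=
  fun _ ha => E.mul_mem (E.mul_mem h ha) (E.inv_mem h)

/-- A `p`-subgroup acting by conjugation on a finite set of elements of size prime to `p` centralises one of them. -/
theorem fix_of_not_dvd {p : ℕ} [Fact p.Prime] {P : Subgroup G} (hP : IsPGroup p P) {T : Set G}
    (hT : ∀ u ∈ P, ∀ t ∈ T, u * t * u⁻¹ ∈ T) (hp : ¬ p ∣ Nat.card T) : ∃ t ∈ T, ∀ u ∈ P, u * t = t * u := by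
  letI : MulAction P T :=
    { smul := fun u t => ⟨u * t * (u : G)⁻¹, hT u u.2 t t.2⟩
      one_smul := fun t => Subtype.ext (by show ((1 : P) : G) * t * ((1 : P) : G)⁻¹ = t; simp)
      mul_smul := fun u v t => Subtype.ext (by
        show ((u * v : P) : G) * t * ((u * v : P) : G)⁻¹ = u * (v * t * (v : G)⁻¹) * (u : G)⁻¹
        simp [mul_assoc]) }
  obtain ⟨t, ht⟩ := hP.nonempty_fixed_point_of_prime_not_dvd_card T hp
  refine ⟨t, t.2, fun u hu => ?_⟩
  have h : u * t * u⁻¹ = t := congrArg Subtype.val (ht ⟨u, hu⟩)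
  exact mul_inv_eq_iff_eq_mul.1 h

/-- `R` is a Sylow `r`-subgroup of `N` (as subgroups of `G`). -/
def Syl (r : ℕ) (N R : Subgroup G) : Prop := ∃ S : Sylow r N, R = (S : Subgroup N).map N.subtype

theorem Syl.le {r : ℕ} {N R : Subgroup G} (h : Syl r N R) : R ≤ N := by
  obtain ⟨S, rfl⟩ := h
  exact map_subtype_le _

theorem Syl.isP {r : ℕ} {N R : Subgroup G} (h : Syl r N R) : IsPGroup r R := by
  obtain ⟨S, rfl⟩ := h
  exact S.isPGroup'.map _

theorem Syl.max {r : ℕ} {N R : Subgroup G} (h : Syl r N R) {Q : Subgroup G} (hQ : IsPGroup r Q) (h1 : Q ≤ N)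
    (h2 : R ≤ Q) : Q = R := by
  obtain ⟨S, rfl⟩ := h
  have h3 : Q.subgroupOf N = S := S.is_maximal' (hQ.comap_subtype) (fun x hx => h2 ⟨x, hx, rfl⟩)
  rw [← h3, subgroupOf_map_subtype, inf_of_le_left h1]

theorem syl_of_max {r : ℕ} {N R : Subgroup G} (h1 : R ≤ N) (h2 : IsPGroup r R)
    (h3 : ∀ Q : Subgroup G, IsPGroup r Q → Q ≤ N → R ≤ Q → Q = R) : Syl r N R := by
  refine ⟨⟨R.subgroupOf N, h2.comap_subtype, fun {Q} hQ hle => ?_⟩, ?_⟩
  · have h4 : Q.map N.subtype = R := h3 _ (hQ.map _) (map_subtype_le _) (fun x hx => ⟨⟨x, h1 hx⟩, hle hx, rfl⟩)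
    rw [← h4]
    exact (comap_map_eq_self_of_injective N.subtype_injective Q).symm
  · show R = (R.subgroupOf N).map N.subtype
    rw [subgroupOf_map_subtype, inf_of_le_left h1]

/-- the conjugate `g R g⁻¹` -/
abbrev cj (g : G) (U : Subgroup G) : Subgroup G := U.map (MulAut.conj g).toMonoidHom

theorem mem_cj {g x : G} {U : Subgroup G} : x ∈ cj g U ↔ g⁻¹ * x * g ∈ U := by
  constructor
  · rintro ⟨y, hy, rfl⟩
    have : g⁻¹ * ((MulAut.conj g).toMonoidHom y) * g = y := by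
      simp [MulAut.conj_apply, mul_assoc]
    rw [this]; exact hy
  · intro h
    refine ⟨_, h, ?_⟩
    simp [MulAut.conj_apply, mul_assoc]

theorem cj_cj (g h : G) (U : Subgroup G) : cj g (cj h U) = cj (g * h) U := by
  ext x; rw [mem_cj, mem_cj, mem_cj]; simp [mul_assoc]

theorem cj_one (U : Subgroup G) : cj 1 U = U := by
  ext x; rw [mem_cj]; simp

theorem cj_eq_iff {g : G} {U : Subgroup G} : cj g U = U ↔ g ∈ normalizer (U : Set G) := by
  rw [← inv_mem_iff, mem_normalizer_iff]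
  constructor
  · intro h x
    have : x ∈ cj g U ↔ g⁻¹ * x * g ∈ U := mem_cj
    rw [h] at this
    simpa using this
  · intro h
    ext x
    rw [mem_cj]
    simpa using (h x).symm

theorem Syl.cj {r : ℕ} {N R : Subgroup G} (h : Syl r N R) {g : G} (hg : g ∈ normalizer (N : Set G)) :
    Syl r N (cj g R) := by
  have hN : Aff.cj g N = N := cj_eq_iff.2 hg
  have hN' : Aff.cj g⁻¹ N = N := cj_eq_iff.2 (inv_mem hg)
  refine syl_of_max ?_ (h.isP.map _) fun Q hQ h1 h2 => ?_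
  · rw [← hN]; exact map_mono h.le
  · have h3 : Aff.cj g⁻¹ Q = R := by
      refine h.max (hQ.map _) ?_ ?_
      · rw [← hN']; exact map_mono h1
      · have : Aff.cj g⁻¹ (Aff.cj g R) ≤ Aff.cj g⁻¹ Q := map_mono h2
        rwa [cj_cj, inv_mul_cancel, cj_one] at this
    rw [← h3, cj_cj, mul_inv_cancel, cj_one]

theorem Syl.conj [Finite G] {r : ℕ} [Fact r.Prime] {N R R' : Subgroup G} (h : Syl r N R) (h' : Syl r N R') :
    ∃ n ∈ N, Aff.cj n R = R' := by
  obtain ⟨S, rfl⟩ := h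
  obtain ⟨S', rfl⟩ := h'
  obtain ⟨n, rfl⟩ := MulAction.exists_smul_eq N S S'
  refine ⟨n, n.2, ?_⟩
  ext x
  rw [mem_cj]
  constructor
  · rintro ⟨y, hy, e⟩
    refine ⟨n * y * n⁻¹, ?_, ?_⟩
    · show n * y * n⁻¹ ∈ ((n • S : Sylow r N) : Subgroup N)
      rw [Sylow.coe_subgroup_smul, mem_pointwise_smul_iff_inv_smul_mem, MulAut.smul_def, MulAut.conj_inv_apply]
      have h0 : n⁻¹ * (n * y * n⁻¹) * n = y := by group
      rw [h0]; exact hy
    · have e' : (y : G) = (n : G)⁻¹ * x * n := e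
      show (n : G) * y * (n : G)⁻¹ = x
      rw [e']; group
  · rintro ⟨y, hy, rfl⟩
    have hy' : y ∈ ((n • S : Sylow r N) : Subgroup N) := hy
    rw [Sylow.coe_subgroup_smul, mem_pointwise_smul_iff_inv_smul_mem, MulAut.smul_def, MulAut.conj_inv_apply] at hy'
    exact ⟨_, hy', rfl⟩

theorem exists_syl (r : ℕ) (N : Subgroup G) : ∃ R, Syl r N R := ⟨_, default, rfl⟩

/-- the elements of `N` carrying `R` to `R'` -/
theorem card_trans {N R R' : Subgroup G} {n : G} (hn : n ∈ N) (e : cj n R = R') :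
    Nat.card {m : G | m ∈ N ∧ cj m R = R'} = Nat.card ↥(N ⊓ normalizer (R : Set G)) := by
  refine Nat.card_congr
    { toFun := fun m => ⟨n⁻¹ * m, N.mul_mem (N.inv_mem hn) m.2.1, cj_eq_iff.1 ?_⟩
      invFun := fun m => ⟨n * m, N.mul_mem hn m.2.1, ?_⟩
      left_inv := fun m => Subtype.ext (by simp)
      right_inv := fun m => Subtype.ext (by simp) }
  · rw [← cj_cj, m.2.2, ← e, cj_cj, inv_mul_cancel, cj_one]
  · rw [← cj_cj, cj_eq_iff.2 m.2.2, e]

section coprime

variable [Finite G] {p : ℕ} [Fact p.Prime] {N P : Subgroup G} (hP : IsPGroup p P) (hPN : P ≤ normalizer (N : Set G))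
  (hp : ¬ p ∣ Nat.card N)

include hP hPN hp in
/-- an invariant Sylow subgroup -/
theorem exists_syl_inv (r : ℕ) [Fact r.Prime] : ∃ R, Syl r N R ∧ P ≤ normalizer (R : Set G) := by
  classical
  letI : MulAction P {R : Subgroup G // Syl r N R} :=
    { smul := fun u R => ⟨cj u R, R.2.cj (hPN u.2)⟩
      one_smul := fun R => Subtype.ext (cj_one _)
      mul_smul := fun u v R => Subtype.ext (cj_cj _ _ _).symm }
  have hc : Nat.card {R : Subgroup G // Syl r N R} = Nat.card (Sylow r N) := by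
    refine (Nat.card_congr (Equiv.ofBijective (fun S : Sylow r N => (⟨_, S, rfl⟩ : {R : Subgroup G // Syl r N R}))
      ⟨fun S S' e => ?_, ?_⟩)).symm
    · exact Sylow.ext (map_injective N.subtype_injective (congrArg Subtype.val e))
    · rintro ⟨_, S, rfl⟩
      exact ⟨S, rfl⟩
  have h1 : ¬ p ∣ Nat.card {R : Subgroup G // Syl r N R} := by
    rw [hc]
    intro h
    exact hp (h.trans ((default : Sylow r N).card_dvd_index.trans (index_dvd_card _)))
  obtain ⟨R, hR⟩ := hP.nonempty_fixed_point_of_prime_not_dvd_card _ h1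
  exact ⟨R, R.2, fun u hu => cj_eq_iff.1 (congrArg Subtype.val (hR ⟨u, hu⟩))⟩

include hP hPN hp in
/-- two invariant Sylow subgroups are conjugate under `C_N(P)` -/
theorem syl_inv_conj {r : ℕ} [Fact r.Prime] {R R' : Subgroup G} (h : Syl r N R) (h' : Syl r N R')
    (i : P ≤ normalizer (R : Set G)) (i' : P ≤ normalizer (R' : Set G)) :
    ∃ n ∈ N, (∀ u ∈ P, u * n = n * u) ∧ cj n R = R' := by
  obtain ⟨n, hn, e⟩ := h.conj h'
  obtain ⟨m, hm, hc⟩ := fix_of_not_dvd hP (T := {m : G | m ∈ N ∧ cj m R = R'}) (fun u hu t ht =>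
    ⟨(mem_normalizer_iff.1 (hPN hu) t).1 ht.1, by
      rw [← cj_cj, ← cj_cj, cj_eq_iff.2 (inv_mem (i hu)), ht.2, cj_eq_iff.2 (i' hu)]⟩) (by
    rw [card_trans hn e]
    exact fun hd => hp (hd.trans (card_dvd_of_le inf_le_left)))
  exact ⟨m, hm.1, hc, hm.2⟩

include hP hPN hp in
/-- **The invariant Sylow subgroup is normalised by `N(P) ⊓ N(N)`.** -/
theorem exists_sylow (hC : ∀ n ∈ N, (∀ u ∈ P, u * n = n * u) → n = 1) (r : ℕ) [Fact r.Prime] :
    ∃ R, Syl r N R ∧ normalizer (P : Set G) ⊓ normalizer (N : Set G) ≤ normalizer (R : Set G) := by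
  obtain ⟨R, hR, i⟩ := exists_syl_inv hP hPN hp r
  refine ⟨R, hR, fun g hg => ?_⟩
  have i' : P ≤ normalizer ((cj g R : Subgroup G) : Set G) := fun u hu => by
    have h1 : g⁻¹ * u * g⁻¹⁻¹ ∈ P := (mem_normalizer_iff.1 (inv_mem hg.1) u).1 hu
    rw [← cj_eq_iff, cj_cj]
    have h2 : u * g = g * (g⁻¹ * u * g⁻¹⁻¹) := by group
    rw [h2, ← cj_cj, cj_eq_iff.2 (i h1)]
  obtain ⟨n, hn, hc, e⟩ := syl_inv_conj hP hPN hp hR (hR.cj hg.2) i i'
  rw [hC n hn hc, cj_one] at e
  exact cj_eq_iff.1 e.symm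

end coprime

/-- `Ω₁(Z(R))` -/
def omz (r : ℕ) (R : Subgroup G) : Subgroup G where
  carrier := {a | a ∈ R ∧ (∀ b ∈ R, a * b = b * a) ∧ a ^ r = 1}
  one_mem' := ⟨R.one_mem, fun b _ => by simp, one_pow _⟩
  mul_mem' := fun {a a'} h h' => ⟨R.mul_mem h.1 h'.1, fun b hb => by
      rw [mul_assoc, h'.2.1 b hb, ← mul_assoc, h.2.1 b hb, mul_assoc], by
      rw [(show Commute a a' from h.2.1 a' h'.1).mul_pow, h.2.2, h'.2.2, one_mul]⟩
  inv_mem' := fun {a} h => ⟨R.inv_mem h.1, fun b hb => ((show Commute a b from h.2.1 b hb).inv_left).eq, by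
      rw [inv_pow, h.2.2, inv_one]⟩

theorem omz_le (r : ℕ) (R : Subgroup G) : omz r R ≤ R := fun _ h => h.1

theorem omz_nm {r : ℕ} {R : Subgroup G} {g : G} (hg : g ∈ normalizer (R : Set G)) : Nm g (omz r R) := by
  intro a ha
  refine ⟨(mem_normalizer_iff.1 hg a).1 ha.1, fun b hb => ?_, by rw [conj_pow, ha.2.2]; simp⟩
  have h1 : g⁻¹ * b * g⁻¹⁻¹ ∈ R := (mem_normalizer_iff.1 (inv_mem hg) b).1 hb
  have h2 := ha.2.1 _ h1
  calc g * a * g⁻¹ * b = g * (a * (g⁻¹ * b * g⁻¹⁻¹)) * g⁻¹ := by group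
    _ = b * (g * a * g⁻¹) := by rw [h2]; group

theorem omz_ne_bot [Finite G] {r : ℕ} [hr : Fact r.Prime] {R : Subgroup G} (h : IsPGroup r R) (h1 : R ≠ ⊥) :
    omz r R ≠ ⊥ := by
  haveI : Nontrivial R := (nontrivial_iff_ne_bot R).2 h1
  haveI := h.center_nontrivial
  have hZ : IsPGroup r (center R) := h.to_subgroup _
  obtain ⟨k, hk0, hk⟩ := hZ.nontrivial_iff_card.1 inferInstance
  obtain ⟨z, hz⟩ := exists_prime_orderOf_dvd_card' (G := center R) r (by rw [hk]; exact dvd_pow_self r hk0.ne')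
  intro e
  have h2 : ((z : R) : G) ∈ omz r R := ⟨(z : R).2, fun b hb => by
      have := mem_center_iff.1 z.2 ⟨b, hb⟩
      exact (congrArg Subtype.val this).symm, by
      have := pow_orderOf_eq_one z
      rw [hz] at this
      exact congrArg (fun t : center R => ((t : R) : G)) this⟩
  rw [e, mem_bot] at h2
  have h3 : z = 1 := Subtype.ext (Subtype.ext h2)
  rw [h3, orderOf_one] at hz
  exact hr.out.one_lt.ne hz

/-- `E` is an elementary abelian `r`-group -/
structure Elab (r : ℕ) (E : Subgroup G) : Prop where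
  comm : ∀ a ∈ E, ∀ b ∈ E, a * b = b * a
  pow : ∀ a ∈ E, a ^ r = 1

theorem omz_elab (r : ℕ) (R : Subgroup G) : Elab r (omz r R) := ⟨fun _ ha _ hb => ha.2.1 _ hb.1, fun _ ha => ha.2.2⟩

theorem Syl.ne_bot [Finite G] {r : ℕ} [Fact r.Prime] {N R : Subgroup G} (h : Syl r N R) (hr : r ∣ Nat.card N) :
    R ≠ ⊥ := by
  obtain ⟨S, rfl⟩ := h
  intro e
  rw [map_eq_bot_iff_of_injective _ N.subtype_injective] at e
  exact S.ne_bot_of_dvd_card hr e

/-- **An invariant elementary abelian subgroup.** -/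
theorem exists_elab [Finite G] {p : ℕ} [Fact p.Prime] {N P : Subgroup G} (hP : IsPGroup p P)
    (hPN : P ≤ normalizer (N : Set G)) (hp : ¬ p ∣ Nat.card N) (hC : ∀ n ∈ N, (∀ u ∈ P, u * n = n * u) → n = 1)
    {r : ℕ} (hr : r.Prime) (hd : r ∣ Nat.card N) :
    ∃ E : Subgroup G, E ≤ N ∧ E ≠ ⊥ ∧ Elab r E ∧
      ∀ g ∈ normalizer (P : Set G), g ∈ normalizer (N : Set G) → Nm g E := by
  haveI := Fact.mk hr
  obtain ⟨R, hR, h⟩ := exists_sylow hP hPN hp hC r
  exact ⟨omz r R, (omz_le r R).trans hR.le, omz_ne_bot hR.isP (hR.ne_bot hd), omz_elab r R,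
    fun g h1 h2 => omz_nm (h ⟨h1, h2⟩)⟩

end Cfsg.Agent.BX.Aff
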