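import Cfsg.Agent.BX.Aff.Basic
import Mathlib.Algebra.BigOperators.Group.Finset.Basic
import Mathlib.Data.ZMod.Basic
import Mathlib.FieldTheory.Finite.Basic

/-!
# A Frobenius group `p : m` acting on an abelian group: the complement has a fixed point (helper25)

`exists_fix` : `E ≠ 1` abelian of order prime to `p`, normalised by `u` and `h`, `u ^ p = 1`, `h ^ m = 1`,
`h u h⁻¹ = u ^ k` with `k ^ j ≢ 1 (mod p)` for `0 < j < m`, `C_E(u) = 1`.  Then `C_E(h) ≠ 1`.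
-/

set_option autoImplicit false
set_option linter.style.haveILetI false

namespace Cfsg.Agent.BX.Aff

open Subgroup

section abstract

variable {F A : Type*} [Group F] [CommGroup A] (φ : F →* MulAut A)

/-- the norm of an element without fixed points vanishes -/
theorem norm_eq_one {g : F} {n : ℕ} (hg : g ^ n = 1) (hC : ∀ a, φ g a = a → a = 1) (a : A) :
    ∏ i ∈ Finset.range n, φ (g ^ i) a = 1 := by
  apply hC
  rw [map_prod]
  have h1 : ∀ i, φ g (φ (g ^ i) a) = φ (g ^ (i + 1)) a := fun i => by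
    rw [pow_succ', map_mul, MulAut.mul_apply]
  simp only [h1]
  have h2 := Finset.prod_range_succ (fun i => φ (g ^ i) a) n
  have h3 := Finset.prod_range_succ' (fun i => φ (g ^ i) a) n
  rw [hg] at h2
  rw [pow_zero] at h3
  exact mul_right_cancel (h3.symm.trans h2)

theorem conj_pow_pow {u h : F} {k : ℕ} (e : h * u * h⁻¹ = u ^ k) (j : ℕ) : h ^ j * u * (h ^ j)⁻¹ = u ^ k ^ j := by
  induction j with
  | zero => simp
  | succ j ih =>
    calc h ^ (j + 1) * u * (h ^ (j + 1))⁻¹ = h * (h ^ j * u * (h ^ j)⁻¹) * h⁻¹ := by rw [pow_succ']; group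
      _ = (h * u * h⁻¹) ^ k ^ j := by rw [ih, conj_pow]
      _ = u ^ k ^ (j + 1) := by rw [e, ← pow_mul, pow_succ']

theorem prod_twist {p : ℕ} (hp : p.Prime) {u : F} (hu : u ^ p = 1) (f : F → A) {c : ℕ} (hc : ¬ p ∣ c) :
    ∏ i ∈ Finset.range p, f (u ^ (c * i)) = ∏ i ∈ Finset.range p, f (u ^ i) := by
  have hmod : ∀ i, u ^ i = u ^ (i % p) := fun i => pow_eq_pow_mod i hu
  have hco : Nat.Coprime p c := (Nat.Prime.coprime_iff_not_dvd hp).2 hc
  have hinj : ∀ i ∈ Finset.range p, ∀ j ∈ Finset.range p, c * i % p = c * j % p → i = j := fun i hi j hj e =>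
    Nat.ModEq.eq_of_lt_of_lt (Nat.ModEq.cancel_left_of_coprime hco e) (Finset.mem_range.1 hi) (Finset.mem_range.1 hj)
  have hmem : ∀ i ∈ Finset.range p, c * i % p ∈ Finset.range p := fun i _ => Finset.mem_range.2 (Nat.mod_lt _ hp.pos)
  refine Finset.prod_bij (fun i _ => c * i % p) hmem hinj (fun j hj => ?_) (fun i _ => by rw [hmod])
  obtain ⟨i, hi, e⟩ := Finset.surj_on_of_inj_on_of_card_le (fun i _ => c * i % p) hmem
    (fun i j hi hj e => hinj i hi j hj e) le_rfl j hj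
  exact ⟨i, hi, e.symm⟩

/-- **The partition identity.** -/
theorem pow_eq_one_of_frob {p m k : ℕ} (hp : p.Prime) (hm : 0 < m) {u h : F} (hu : u ^ p = 1) (hh : h ^ m = 1)
    (e : h * u * h⁻¹ = u ^ k) (hk : ∀ j, 0 < j → j < m → k ^ j % p ≠ 1) (hCu : ∀ a, φ u a = a → a = 1)
    (hCh : ∀ a, φ h a = a → a = 1) (a : A) : a ^ p = 1 := by
  have h1 : ∀ i, ∏ j ∈ Finset.range m, φ ((u ^ i)⁻¹ * h ^ j * u ^ i) a = 1 := fun i => by
    have h2 := congrArg (φ (u ^ i)⁻¹) (norm_eq_one φ hh hCh (φ (u ^ i) a))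
    rw [map_one, map_prod] at h2
    rw [← h2]
    refine Finset.prod_congr rfl fun j _ => ?_
    rw [map_mul, map_mul, MulAut.mul_apply, MulAut.mul_apply]
  have h2 : ∀ j, 0 < j → j < m → ∏ i ∈ Finset.range p, φ ((u ^ i)⁻¹ * h ^ j * u ^ i) a = 1 := fun j j0 jm => by
    have h3 : ∀ i, (u ^ i)⁻¹ * h ^ j * u ^ i = u ^ ((k ^ j + (p - 1)) * i) * h ^ j := fun i => by
      have h4 : h ^ j * u ^ i * (h ^ j)⁻¹ = u ^ (k ^ j * i) := by rw [← conj_pow, conj_pow_pow e, ← pow_mul]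
      have h5 : (u ^ i)⁻¹ = u ^ ((p - 1) * i) := by
        rw [eq_comm, ← mul_eq_one_iff_eq_inv, ← pow_add]
        have : (p - 1) * i + i = p * i := by
          have := hp.pos
          rw [← Nat.succ_mul]; congr 1; omega
        rw [this, pow_mul, hu, one_pow]
      calc (u ^ i)⁻¹ * h ^ j * u ^ i = (u ^ i)⁻¹ * (h ^ j * u ^ i * (h ^ j)⁻¹) * h ^ j := by group
        _ = u ^ ((k ^ j + (p - 1)) * i) * h ^ j := by rw [h4, h5, ← pow_add, add_mul, add_comm]
    have h6 : ¬ p ∣ k ^ j + (p - 1) := by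
      intro hd
      apply hk j j0 jm
      have h7 : (k ^ j + (p - 1) + 1) % p = 1 % p := by
        obtain ⟨c, hc⟩ := hd
        rw [hc, Nat.mul_add_mod]
      have h8 : k ^ j + (p - 1) + 1 = k ^ j + p := by have := hp.pos; omega
      rw [h8, Nat.add_mod_right, Nat.mod_eq_of_lt hp.one_lt] at h7
      exact h7
    simp only [h3]
    rw [prod_twist hp hu (fun g => φ (g * h ^ j) a) h6, ← norm_eq_one φ hu hCu (φ (h ^ j) a)]
    refine Finset.prod_congr rfl fun i _ => ?_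
    rw [map_mul, MulAut.mul_apply]
  have h3 : ∏ i ∈ Finset.range p, ∏ j ∈ Finset.range m, φ ((u ^ i)⁻¹ * h ^ j * u ^ i) a = 1 :=
    Finset.prod_eq_one fun i _ => h1 i
  rw [Finset.prod_comm, Finset.prod_eq_single_of_mem 0 (Finset.mem_range.2 hm)
    (fun j hj j0 => h2 j (Nat.pos_of_ne_zero j0) (Finset.mem_range.1 hj))] at h3
  simpa using h3

end abstract

variable {G : Type*} [Group G]

/-- the commutative group structure on an abelian subgroup -/
abbrev commOf {E : Subgroup G} (hE : ∀ a ∈ E, ∀ b ∈ E, a * b = b * a) : CommGroup E :=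
  { (inferInstance : Group E) with mul_comm := fun a b => Subtype.ext (hE a a.2 b b.2) }

/-- **The complement of a Frobenius group has a fixed point.** -/
theorem exists_fix [Finite G] {p m k : ℕ} (hp : p.Prime) (hm : 0 < m) {u h : G} (hu : u ^ p = 1) (hh : h ^ m = 1)
    (e : h * u * h⁻¹ = u ^ k) (hk : ∀ j, 0 < j → j < m → k ^ j % p ≠ 1) {E : Subgroup G}
    (hE : ∀ a ∈ E, ∀ b ∈ E, a * b = b * a) (h1 : E ≠ ⊥) (hd : ¬ p ∣ Nat.card E) (nu : Nm u E) (nh : Nm h E)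
    (hCu : ∀ a ∈ E, u * a = a * u → a = 1) : ∃ a ∈ E, a ≠ 1 ∧ h * a = a * h := by
  by_contra hn
  have hCh : ∀ a ∈ E, h * a = a * h → a = 1 := fun a ha hc => by
    by_contra h2
    exact hn ⟨a, ha, h2, hc⟩
  letI := commOf hE
  have key := pow_eq_one_of_frob (F := normalizer (E : Set G)) (A := E) E.normalizerMonoidHom hp hm
    (u := ⟨u, nu.mem⟩) (h := ⟨h, nh.mem⟩) (Subtype.ext hu) (Subtype.ext hh) (Subtype.ext e) hk
    (fun a ha => Subtype.ext (hCu a a.2 (mul_inv_eq_iff_eq_mul.1 (congrArg Subtype.val ha))))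
    (fun a ha => Subtype.ext (hCh a a.2 (mul_inv_eq_iff_eq_mul.1 (congrArg Subtype.val ha))))
  obtain ⟨a, ha, ha1⟩ := (bot_or_exists_ne_one E).resolve_left h1
  have h2 : orderOf (⟨a, ha⟩ : E) ∣ p := orderOf_dvd_of_pow_eq_one (key ⟨a, ha⟩)
  rcases (Nat.dvd_prime hp).1 h2 with h3 | h3
  · exact ha1 (congrArg Subtype.val (orderOf_eq_one_iff.1 h3))
  · exact hd (h3 ▸ orderOf_dvd_natCard _)

/-- **`C_N(h) ≠ 1`** for a nontrivial `p'`-group `N` normalised by the Frobenius group `⟨u, h⟩` with `C_N(u) = 1`. -/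
theorem exists_fix_of_fpf [Finite G] {p m k : ℕ} (hp : p.Prime) (hm : 0 < m) {u h : G} (hu : u ^ p = 1)
    (hh : h ^ m = 1) (e : h * u * h⁻¹ = u ^ k) (hk : ∀ j, 0 < j → j < m → k ^ j % p ≠ 1) {N : Subgroup G}
    (h1 : N ≠ ⊥) (hd : ¬ p ∣ Nat.card N) (nu : Nm u N) (nh : Nm h N) (hCu : ∀ a ∈ N, u * a = a * u → a = 1) :
    ∃ a ∈ N, a ≠ 1 ∧ h * a = a * h := by
  haveI := Fact.mk hp
  have hP : IsPGroup p (zpowers u) := by
    rintro ⟨_, i, rfl⟩
    refine ⟨1, Subtype.ext ?_⟩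
    show (u ^ i) ^ p ^ 1 = 1
    rw [pow_one, ← zpow_natCast, ← zpow_mul, mul_comm, zpow_mul, zpow_natCast, hu, one_zpow]
  have hN : Nat.card N ≠ 1 := fun hc => h1 (card_eq_one.1 hc)
  obtain ⟨r, hr, hrd⟩ := Nat.exists_prime_and_dvd hN
  obtain ⟨E, hEN, hE1, hE, hn⟩ := exists_elab hP (zpowers_le.2 nu.mem) hd
    (fun n hn hc => hCu n hn (hc u (mem_zpowers u))) hr hrd
  have hhu : Nm h (zpowers u) := by
    rintro _ ⟨i, rfl⟩
    show h * u ^ i * h⁻¹ ∈ zpowers u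
    rw [← conj_zpow, e]
    exact zpow_mem (pow_mem (mem_zpowers u) k) i
  obtain ⟨a, ha, h2, h3⟩ := exists_fix hp hm hu hh e hk hE.comm hE1 (fun hd' => hd (hd'.trans (card_dvd_of_le hEN)))
    (hn u (le_normalizer (mem_zpowers u)) nu.mem) (hn h hhu.mem nh.mem) (fun a ha => hCu a (hEN ha))
  exact ⟨a, hEN ha, h2, h3⟩

end Cfsg.Agent.BX.Aff
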