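import Cfsg.Agent.BX.Aff.Frob
import Mathlib.LinearAlgebra.Charpoly.Basic
import Mathlib.LinearAlgebra.Charpoly.ToMatrix
import Mathlib.LinearAlgebra.Eigenspace.Minpoly
import Mathlib.FieldTheory.IsAlgClosed.AlgebraicClosure
import Mathlib.Algebra.Module.ZMod
import Mathlib.FieldTheory.Finiteness

/-!
# The rank of an elementary abelian group with a Frobenius group `p : m` acting (helper25)

`exists_rank` : `E ≠ 1` an elementary abelian `r`-group normalised by `u` and `h`, `u ^ p = 1`, `h u h⁻¹ = u ^ k` with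
`k ^ j ≢ 1 (mod p)` for `0 < j < m`, `C_E(u) = 1`.  Then `|E| = r ^ d` with `m ≤ d`.
-/

set_option autoImplicit false
set_option linter.style.haveILetI false

namespace Cfsg.Agent.BX.Aff

open Subgroup Polynomial

/-- the eigenvalues of `T` are closed under `ζ ↦ ζ ^ k` -/
theorem le_finrank {K V : Type*} [Field K] [AddCommGroup V] [Module K V] [Module.Finite K V] [Nontrivial V]
    {p m k : ℕ} (hp : p.Prime) {T : Module.End K V} {S : V ≃ₗ[K] V} (hT : T ^ p = 1)
    (e : ∀ v, S (T v) = (T ^ k) (S v)) (hk : ∀ j, 0 < j → j < m → k ^ j % p ≠ 1) (hC : ∀ v, T v = v → v = 0) :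
    m ≤ Module.finrank K V := by
  classical
  have hint : IsIntegral K T := Algebra.IsIntegral.isIntegral T
  set f := minpoly K T with hf
  let L := AlgebraicClosure K
  have h1 : ∀ ζ : L, aeval ζ f = 0 → ζ ^ p = 1 := fun ζ hζ => by
    obtain ⟨g, hg⟩ : f ∣ X ^ p - 1 := minpoly.dvd K T (by rw [map_sub, map_pow, aeval_X, map_one, hT, sub_self])
    have := congrArg (aeval ζ) hg
    rw [map_mul, hζ, zero_mul, map_sub, map_pow, aeval_X, map_one] at this
    exact sub_eq_zero.1 this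
  have h2 : ∀ ζ : L, aeval ζ f = 0 → ζ ≠ 1 := fun ζ hζ h => by
    have h3 : f.IsRoot 1 := by
      rw [h, ← map_one (algebraMap K L), aeval_algebraMap_apply, map_eq_zero] at hζ
      rw [IsRoot.def, ← coe_aeval_eq_eval]
      exact hζ
    obtain ⟨v, hv⟩ := (Module.End.hasEigenvalue_of_isRoot h3).exists_hasEigenvector
    exact hv.2 (hC v (by rw [hv.apply_eq_smul, one_smul]))
  have h3 : ∀ ζ : L, aeval ζ f = 0 → aeval (ζ ^ k) f = 0 := fun ζ hζ => by
    have h4 : S.conjAlgEquiv K T = T ^ k := by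
      ext v
      rw [LinearEquiv.conjAlgEquiv_apply]
      simp [e]
    have h5 : aeval (T ^ k) f = 0 := by
      rw [← h4, aeval_algHom_apply (S.conjAlgEquiv K), hf, minpoly.aeval, map_zero]
    obtain ⟨g, hg⟩ : f ∣ f.comp (X ^ k) := minpoly.dvd K T (by rw [aeval_comp, map_pow, aeval_X, h5])
    have := congrArg (aeval ζ) hg
    rwa [map_mul, hζ, zero_mul, aeval_comp, map_pow, aeval_X] at this
  obtain ⟨ζ, hζ⟩ : ∃ ζ : L, aeval ζ f = 0 := IsAlgClosed.exists_aeval_eq_zero L f (minpoly.degree_pos hint).ne'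
  have h4 : ∀ i, aeval (ζ ^ k ^ i) f = 0 := fun i => by
    induction i with
    | zero => simpa using hζ
    | succ i ih => rw [pow_succ, pow_mul]; exact h3 _ ih
  haveI := Fact.mk hp
  have ho : orderOf ζ = p := orderOf_eq_prime (h1 ζ hζ) (h2 ζ hζ)
  have hco : ∀ i, Nat.Coprime p (k ^ i) := fun i => (Nat.Prime.coprime_iff_not_dvd hp).2 fun hd =>
    h2 _ (h4 i) (orderOf_dvd_iff_pow_eq_one.1 (ho ▸ hd))
  have hlt : ∀ i j, i < j → j < m → ζ ^ k ^ i ≠ ζ ^ k ^ j := fun i j hij hj h => by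
    have hu : IsOfFinOrder ζ := orderOf_pos_iff.1 (ho ▸ hp.pos)
    have h5 : k ^ i ≡ k ^ j [MOD p] := ho ▸ hu.pow_eq_pow_iff_modEq.1 h
    have h6 : k ^ i * 1 ≡ k ^ i * k ^ (j - i) [MOD p] := by
      rwa [mul_one, ← pow_add, Nat.add_sub_cancel' hij.le]
    have h7 := Nat.ModEq.cancel_left_of_coprime (hco i) h6
    apply hk (j - i) (by omega) (by omega)
    rw [← h7, Nat.mod_eq_of_lt hp.one_lt]
  have hinj : Set.InjOn (fun i => ζ ^ k ^ i) (Finset.range m : Set ℕ) := fun i hi j hj h => by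
    rcases lt_trichotomy i j with h5 | h5 | h5
    · exact absurd h (hlt i j h5 (Finset.mem_range.1 hj))
    · exact h5
    · exact absurd h.symm (hlt j i h5 (Finset.mem_range.1 hi))
  have hne : f.map (algebraMap K L) ≠ 0 := map_ne_zero (minpoly.ne_zero hint)
  have h5 : ((Finset.range m).image fun i => ζ ^ k ^ i).card ≤ (f.map (algebraMap K L)).natDegree := by
    refine card_le_degree_of_subset_roots fun x hx => ?_
    obtain ⟨i, -, rfl⟩ := Finset.mem_image.1 (show x ∈ (Finset.range m).image fun i => ζ ^ k ^ i from hx)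
    rw [mem_roots hne, IsRoot.def, eval_map_algebraMap]
    exact h4 i
  rw [Finset.card_image_of_injOn hinj, Finset.card_range, natDegree_map] at h5
  refine h5.trans ?_
  rw [← LinearMap.charpoly_natDegree T]
  exact natDegree_le_of_dvd (LinearMap.minpoly_dvd_charpoly T) (LinearMap.charpoly_monic T).ne_zero

theorem rank_abs' {F A : Type*} [Group F] [CommGroup A] [Finite A] [Nontrivial A] (φ : F →* MulAut A) {p m k r : ℕ}
    (hp : p.Prime) [Fact r.Prime] [Module (ZMod r) (Additive A)] {u h : F} (hu : u ^ p = 1) (e : h * u * h⁻¹ = u ^ k)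
    (hk : ∀ j, 0 < j → j < m → k ^ j % p ≠ 1) (hCu : ∀ a, φ u a = a → a = 1) : ∃ d, m ≤ d ∧ Nat.card A = r ^ d := by
  let ψ : F → (Additive A ≃ₗ[ZMod r] Additive A) := fun g =>
    { (MulEquiv.toAdditive (φ g) : Additive A ≃+ Additive A) with
      map_smul' := fun c x => ZMod.map_smul (MulEquiv.toAdditive (φ g)) c x }
  let T : Module.End (ZMod r) (Additive A) := (ψ u).toLinearMap
  have hT : ∀ (n : ℕ) (x : Additive A), ((T ^ n : Module.End (ZMod r) (Additive A)) x).toMul = φ (u ^ n) x.toMul :=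
    fun n => by
    induction n with
    | zero => intro x; simp
    | succ n ih =>
      intro x
      rw [pow_succ', Module.End.mul_apply, pow_succ', map_mul, MulAut.mul_apply, ← ih]
      rfl
  refine ⟨Module.finrank (ZMod r) (Additive A), le_finrank (T := T) (S := ψ h) hp ?_ ?_ hk ?_, ?_⟩
  · refine LinearMap.ext fun x => Additive.toMul.injective ?_
    rw [hT, hu]
    simp
  · intro x
    apply Additive.toMul.injective
    rw [hT, ← e]
    show φ h (φ u x.toMul) = φ (h * u * h⁻¹) (φ h x.toMul)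
    rw [← MulAut.mul_apply, ← MulAut.mul_apply, ← map_mul, ← map_mul, inv_mul_cancel_right]
  · intro x hx
    apply Additive.toMul.injective
    exact hCu _ (congrArg Additive.toMul hx)
  · have := Module.natCard_eq_pow_finrank (K := ZMod r) (V := Additive A)
    rwa [Nat.card_zmod, Nat.card_congr Additive.toMul] at this

theorem rank_abs {F A : Type*} [Group F] [CommGroup A] [Finite A] [Nontrivial A] (φ : F →* MulAut A) {p m k r : ℕ}
    (hp : p.Prime) (hr : r.Prime) (hA : ∀ a : A, a ^ r = 1) {u h : F} (hu : u ^ p = 1) (e : h * u * h⁻¹ = u ^ k)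
    (hk : ∀ j, 0 < j → j < m → k ^ j % p ≠ 1) (hCu : ∀ a, φ u a = a → a = 1) : ∃ d, m ≤ d ∧ Nat.card A = r ^ d :=
  haveI := Fact.mk hr
  @rank_abs' F A _ _ _ _ φ p m k r hp _ (AddCommGroup.zmodModule fun x => by
    apply Additive.toMul.injective
    rw [toMul_nsmul]
    exact hA _) u h hu e hk hCu

variable {G : Type*} [Group G]

/-- **The rank bound.** -/
theorem exists_rank [Finite G] {p m k r : ℕ} (hp : p.Prime) (hr : r.Prime) {u h : G} (hu : u ^ p = 1)
    (e : h * u * h⁻¹ = u ^ k) (hk : ∀ j, 0 < j → j < m → k ^ j % p ≠ 1) {E : Subgroup G} (hE : Elab r E)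
    (h1 : E ≠ ⊥) (nu : Nm u E) (nh : Nm h E) (hCu : ∀ a ∈ E, u * a = a * u → a = 1) :
    ∃ d, m ≤ d ∧ Nat.card E = r ^ d := by
  letI := commOf hE.comm
  haveI : Nontrivial E := (nontrivial_iff_ne_bot E).2 h1
  exact rank_abs (F := normalizer (E : Set G)) (A := E) E.normalizerMonoidHom hp hr
    (fun a => Subtype.ext (hE.pow a a.2)) (u := ⟨u, nu.mem⟩) (h := ⟨h, nh.mem⟩) (Subtype.ext hu) (Subtype.ext e) hk
    (fun a ha => Subtype.ext (hCu a a.2 (mul_inv_eq_iff_eq_mul.1 (congrArg Subtype.val ha))))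

/-- **The rank bound** for a nontrivial `p'`-group `N` normalised by the group `⟨u, h⟩` with `C_N(u) = 1`. -/
theorem exists_rank_of_fpf [Finite G] {p m k : ℕ} (hp : p.Prime) {u h : G} (hu : u ^ p = 1)
    (e : h * u * h⁻¹ = u ^ k) (hk : ∀ j, 0 < j → j < m → k ^ j % p ≠ 1) {N : Subgroup G}
    (hd : ¬ p ∣ Nat.card N) (nu : Nm u N) (nh : Nm h N) (hCu : ∀ a ∈ N, u * a = a * u → a = 1)
    {r : ℕ} (hr : r.Prime) (hrd : r ∣ Nat.card N) :
    ∃ E : Subgroup G, E ≤ N ∧ Elab r E ∧ Nm u E ∧ Nm h E ∧ ∃ d, m ≤ d ∧ 0 < d ∧ Nat.card E = r ^ d := by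
  haveI := Fact.mk hp
  have hP : IsPGroup p (zpowers u) := by
    rintro ⟨_, i, rfl⟩
    refine ⟨1, Subtype.ext ?_⟩
    show (u ^ i) ^ p ^ 1 = 1
    rw [pow_one, ← zpow_natCast, ← zpow_mul, mul_comm, zpow_mul, zpow_natCast, hu, one_zpow]
  obtain ⟨E, hEN, hE1, hE, hn⟩ := exists_elab hP (zpowers_le.2 nu.mem) hd
    (fun n hn hc => hCu n hn (hc u (mem_zpowers u))) hr hrd
  have hhu : Nm h (zpowers u) := by
    rintro _ ⟨i, rfl⟩
    show h * u ^ i * h⁻¹ ∈ zpowers u
    rw [← conj_zpow, e]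
    exact zpow_mem (pow_mem (mem_zpowers u) k) i
  have a1 := hn u (le_normalizer (mem_zpowers u)) nu.mem
  have a2 := hn h hhu.mem nh.mem
  obtain ⟨d, hd1, hd2⟩ := exists_rank hp hr hu e hk hE hE1 a1 a2 (fun a ha => hCu a (hEN ha))
  refine ⟨E, hEN, hE, a1, a2, d, hd1, Nat.pos_of_ne_zero ?_, hd2⟩
  rintro rfl
  exact hE1 (card_eq_one.1 hd2)

end Cfsg.Agent.BX.Aff
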